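import Cfsg.Agent.Lib.ThreeTrans.Classification.Pol
import Cfsg.Agent.Lib.ThreeTrans.Classification.Section
import Cfsg.Agent.Lib.ThreeTrans.Classification.ReconM.Numbers
import Cfsg.Agent.Lib.ThreeTrans.SympSection.Adapter
import Cfsg.Agent.Lib.ThreeTrans.RankThreeFischer

/-!
Fischer's classification, slice ALIAS, first part: classes given by a table of their commutation relation,
central quotients of primitive classes, transport of models (owner: helper10).
-/

set_option autoImplicit false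

attribute [local instance] Classical.propDecidable

namespace CfsgLib.ThreeTrans.Fischer

open Cfsg RankThree

universe u v

/-- A class listed without repetition by `p`, with its commutation relation `R`. -/
structure Chart {G : Type u} [Group G] (D : Set G) {ι : Type} (p : ι → G) (R : ι → ι → Prop) : Prop where
  range : Set.range p = D
  inj : Function.Injective p
  comm : ∀ i j, Commute (p i) (p j) ↔ R i j

section Chart

variable {G : Type u} [Group G] {D : Set G} {ι : Type} {p : ι → G} {R : ι → ι → Prop}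

theorem Chart.mem (C : Chart D p R) (i : ι) : p i ∈ D := C.range ▸ ⟨i, rfl⟩

theorem Chart.exists_eq (C : Chart D p R) {a : G} (ha : a ∈ D) : ∃ i, p i = a := by
  rw [← C.range] at ha; exact ha

theorem Chart.ncard [Fintype ι] (C : Chart D p R) : D.ncard = Fintype.card ι := by
  rw [← C.range, ← Nat.card_coe_set_eq, Nat.card_range_of_injective C.inj, Nat.card_eq_fintype_card]

theorem Chart.pol [Finite G] (C : Chart D p R) (S : Setting D) (hZ : Subgroup.center G = ⊥) (x y z : ι)
    (h : x ≠ y ∧ R x y ∧ z ≠ x ∧ z ≠ y ∧ ∀ d, R d x → R d y → R d z) : Polar.Pol D := by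
  obtain ⟨h1, h2, h3, h4, h5⟩ := h
  refine ⟨S, hZ, p x, C.mem x, p y, C.mem y, p z, C.mem z, fun e => h1 (C.inj e), (C.comm x y).2 h2,
    fun e => h3 (C.inj e), fun e => h4 (C.inj e), fun d hd hdx hdy => ?_⟩
  obtain ⟨i, rfl⟩ := C.exists_eq hd
  exact (C.comm i z).2 (h5 i ((C.comm i x).1 hdx) ((C.comm i y).1 hdy))

/-- The alternating form of `Sp(4, 2)`, in coordinates. -/
def symp4 (a b : Fin 2 ⊕ Fin 2 → ZMod 2) : ZMod 2 :=
  a (Sum.inr 0) * b (Sum.inl 0) - a (Sum.inl 0) * b (Sum.inr 0) +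
    (a (Sum.inr 1) * b (Sum.inl 1) - a (Sum.inl 1) * b (Sum.inr 1))

theorem sympBil_two (a b : Fin 2 ⊕ Fin 2 → ZMod 2) :
    CfsgLib.Classical.Symp.sympBil 2 (ZMod 2) a b = symp4 a b := by
  rw [CfsgLib.Classical.Symp.sympBil_apply, CfsgLib.Classical.Symp.sympForm_expand, Fin.sum_univ_two]
  rfl

/-- The neighbours of one member are the points of a symplectic space of dimension four. -/
theorem Chart.orth [Finite G] (C : Chart D p R) (S : Setting D) (hZ : Subgroup.center G = ⊥) (i₀ : ι)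
    (σ : ι → Fin 2 ⊕ Fin 2 → ZMod 2)
    (h1 : ∀ i j, i ≠ i₀ → j ≠ i₀ → R i₀ i → R i₀ j → σ i = σ j → i = j)
    (h2 : ∀ i, i ≠ i₀ → R i₀ i → σ i ≠ 0) (h3 : ∀ w, w ≠ 0 → ∃ i, i ≠ i₀ ∧ R i₀ i ∧ σ i = w)
    (h4 : ∀ i j, i ≠ i₀ → j ≠ i₀ → R i₀ i → R i₀ j → (R i j ↔ symp4 (σ i) (σ j) = 0)) :
    (D.ncard = 28 ∧ (Fam.oPlus 3).Model G D) ∨ (D.ncard = 36 ∧ (Fam.oMinus 3).Model G D) := by
  classical
  let s : G → Fin 2 ⊕ Fin 2 → ZMod 2 := fun a => if h : ∃ i, p i = a then σ h.choose else 0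
  have hs : ∀ i, s (p i) = σ i := fun i => by
    have h : ∃ j, p j = p i := ⟨i, rfl⟩
    simp only [s, dif_pos h]
    rw [C.inj h.choose_spec]
  have hget : ∀ a ∈ CoreNC.nb D (p i₀), ∃ i, p i = a ∧ i ≠ i₀ ∧ R i₀ i := fun a ha => by
    obtain ⟨i, rfl⟩ := C.exists_eq ha.1
    exact ⟨i, rfl, fun e => ha.2.1 (by rw [e]), (C.comm i₀ i).1 ha.2.2⟩
  have hB : SympSection.Symp (CfsgLib.Classical.Symp.sympBil 2 (ZMod 2)) :=
    ⟨CfsgLib.Classical.Symp.sympBil_isAlt 2 (ZMod 2), CfsgLib.Classical.Symp.sympBil_nondegenerate 2 (ZMod 2), by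
      rw [CfsgLib.Classical.Symp.finrank_sympSpace]⟩
  obtain ⟨L⟩ := SympSection.loc_of_one S hB (C.mem i₀) s
    (fun a ha b hb e => by
      obtain ⟨i, rfl, hi, hi'⟩ := hget a ha
      obtain ⟨j, rfl, hj, hj'⟩ := hget b hb
      rw [hs, hs] at e
      rw [h1 i j hi hj hi' hj' e])
    (fun a ha => by
      obtain ⟨i, rfl, hi, hi'⟩ := hget a ha
      rw [hs]; exact h2 i hi hi')
    (fun w hw => by
      obtain ⟨i, hi, hi', e⟩ := h3 w hw
      exact ⟨p i, ⟨C.mem i, fun e' => hi (C.inj e'), (C.comm i₀ i).2 hi'⟩, by rw [hs, e]⟩)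
    (fun a ha b hb => by
      obtain ⟨i, rfl, hi, hi'⟩ := hget a ha
      obtain ⟨j, rfl, hj, hj'⟩ := hget b hb
      rw [hs, hs, sympBil_two, C.comm, h4 i j hi hj hi' hj'])
  obtain ⟨M, hM, h⟩ := SympSection.orth_of_loc_card L hZ
  rw [CfsgLib.Classical.Symp.finrank_sympSpace] at hM
  obtain rfl : M = 3 := by omega
  rcases h with ⟨hn, h⟩ | ⟨hn, h⟩
  · exact Or.inl ⟨by omega, h⟩
  · exact Or.inr ⟨by omega, h⟩

end Chart

/-- The two families with a thick line, by the number of members. -/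
theorem sp_two_of_pol {G : Type u} [Group G] [Finite G] {D : Set G} (P : Polar.Pol D) (h : D.ncard = 15) :
    (Fam.sp 2).Model G D := by
  obtain ⟨f, hf, hfp, hm, ht, -⟩ := polStatement G D P
  have hc := ht.card.symm.trans h
  cases f <;> simp only [Fam.IsPol] at hfp
  · rename_i m
    obtain rfl : m = 2 := by
      simp only [Fam.OK] at hf
      simp only [Fam.tup] at hc
      by_contra hne
      have : 4 ^ 3 ≤ 4 ^ m := Nat.pow_le_pow_right (by norm_num) (by omega)
      omega
    exact hm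
  · rename_i n
    exfalso
    simp only [Fam.OK] at hf
    simp only [Fam.tup] at hc
    have := MType.isoU_lower n (by omega)
    rcases Nat.lt_or_ge n 6 with h6 | h6
    · interval_cases n <;> revert hc <;> decide
    · have := Nat.pow_le_pow_right (show 0 < 2 by norm_num) (show 7 ≤ 2 * n - 5 by omega)
      omega

/-- With forty-five members it is the unitary group, over any field with four elements. -/
theorem unit_four_of_pol {G : Type u} [Group G] [Finite G] {D : Set G} (P : Polar.Pol D) (h : D.ncard = 45)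
    (F : Type) [Field F] [Fintype F] (hF : Fintype.card F = 4) :
    ∃ e : G ≃* Cfsg.PSU 4 F 2, e '' D = (QuotientGroup.mk : ↥(Cfsg.SU 4 F 2) → Cfsg.PSU 4 F 2) ''
        {g : ↥(Cfsg.SU 4 F 2) | (((g : Matrix.SpecialLinearGroup (Fin 4) F) : Matrix (Fin 4) (Fin 4) F) - 1).rank = 1} := by
  rcases Polar.three_or_five P with h3 | h5
  · exfalso
    obtain ⟨k, hk, -⟩ := Polar.symplectic_image P h3
    have e := (sympModel P h3).ncard_all
    have e2 := sympCount P h3 ⊤
    rw [finrank_top, hk] at e2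
    rw [Nat.card_zmod, h] at e
    rcases Nat.lt_or_ge k 3 with hk3 | hk3
    · interval_cases k <;> omega
    · have := Nat.pow_le_pow_right (show 0 < 2 by norm_num) (show 6 ≤ 2 * k by omega)
      omega
  · obtain ⟨a, ha, -⟩ := P.base.nontriv
    obtain ⟨c, hc, hac⟩ := exists_not_commute P.base.cls P.base.nontriv ha
    obtain ⟨C, -⟩ := Polar.Frame.exists_coord_frame (K := F) ⟨a, c, ha, hc, hac, P, h5⟩ (by rw [hF]; norm_num)
    haveI : Finite C.Big := Module.finite_of_finite F
    obtain ⟨n, hn, he⟩ := Polar.unitary_image C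
    have hfin : Module.finrank F C.Big = n := by
      simp only [Module.finrank_prod, Module.finrank_self]; omega
    have hn4 : 4 ≤ n := by have := C.finrank_big.2; omega
    have e := (unitModel C).ncard_all
    rw [unitCount C _ (unitModel C).nondeg, finrank_top, hfin, h, Nat.card_eq_fintype_card, hF] at e
    obtain rfl : n = 4 := by
      have := MType.isoU_lower n (by omega)
      rcases Nat.lt_or_ge n 6 with h6 | h6
      · interval_cases n
        · rfl
        · revert e; decide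
      · have := Nat.pow_le_pow_right (show 0 < 2 by norm_num) (show 7 ≤ 2 * n - 5 by omega)
        omega
    exact he

/-- A model carries over along an isomorphism respecting the classes. -/
theorem image_trans {G : Type*} {H : Type*} {K : Type*} [Group G] [Group H] [Group K] {D : Set G} {E : Set H}
    (e : G ≃* H) (he : e '' D = E) (e' : H ≃* K) : (e.trans e') '' D = e' '' E := by
  rw [← he, Set.image_image]
  rfl

/-- Two groups with the same model correspond. -/
theorem image_symm {G : Type*} {H : Type*} {K : Type*} [Group G] [Group H] [Group K] {D : Set G} {E : Set H}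
    (e : G ≃* K) (e' : H ≃* K) (h : e '' D = e' '' E) : (e.trans e'.symm) '' D = E := by
  rw [image_trans e h, Set.image_image]
  simp

/-! ### Central quotients -/

section Quotient

variable {G : Type u} [Group G] [Finite G] {D : Set G}

/-- The central quotient of a primitive class whose members stay distinct. -/
theorem setting_center_quotient (hD : IsThreeTranspositionClass D) (hprim : IsPrimitiveUnderConj D)
    (hw : ∃ a ∈ D, ∃ b ∈ D, a ≠ b ∧ Commute a b)
    (hinj : Set.InjOn (QuotientGroup.mk : G → G ⧸ Subgroup.center G) D) :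
    Setting ((QuotientGroup.mk : G → G ⧸ Subgroup.center G) '' D) ∧ Subgroup.center (G ⧸ Subgroup.center G) = ⊥ ∧
      ∀ x ∈ D, ∀ y ∈ D, Commute (x : G ⧸ Subgroup.center G) (y : G ⧸ Subgroup.center G) ↔ Commute x y := by
  haveI : Fact (Nat.Prime 2) := ⟨Nat.prime_two⟩
  haveI : Fact (Nat.Prime 3) := ⟨Nat.prime_three⟩
  have hgrp := group_of_class hD
  have hF := fitting_le_center hD (pCore_le_center hgrp hprim hw Nat.prime_two)
    (pCore_le_center hgrp hprim hw Nat.prime_three)
  set π := QuotientGroup.mk' (Subgroup.center G) with hπ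
  have hcomm : ∀ x ∈ D, ∀ y ∈ D, Commute (π x) (π y) ↔ Commute x y := fun x hx y hy => by
    refine ⟨fun h => ?_, fun h => h.map π⟩
    have : π (x * y * x⁻¹) = π y := by rw [map_mul, map_mul, map_inv, h.eq, mul_inv_cancel_right]
    exact mul_inv_eq_iff_eq_mul.1 (hinj (class_conj hD x y hy) hy this)
  have hcenter : Subgroup.center (G ⧸ Subgroup.center G) = ⊥ := by
    haveI : Group.IsNilpotent (Subgroup.center (G ⧸ Subgroup.center G)) :=
      isNilpotent_of_comm fun a b => Subtype.ext (Subgroup.mem_center_iff.1 b.2 a)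
    exact eq_bot_of_nilpotent_quotient hF _
  refine ⟨⟨⟨⟨?_, ?_⟩, ?_, ?_⟩, ?_, ?_, ⟨?_, ?_, ?_⟩, ?_⟩, hcenter, hcomm⟩
  · rintro _ ⟨x, hx, rfl⟩
    refine orderOf_eq_prime (by rw [pow_two, ← QuotientGroup.mk_mul, mul_self hD.1 hx, QuotientGroup.mk_one]) ?_
    intro e
    exact not_central hD ⟨_, hw.choose_spec.1, _, hw.choose_spec.2.choose_spec.1, hw.choose_spec.2.choose_spec.2.1⟩ hx
      ((QuotientGroup.eq_one_iff x).1 e)
  · rintro _ ⟨x, hx, rfl⟩ _ ⟨y, hy, rfl⟩
    rcases hD.1.2 x hx y hy with h | h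
    · left; rw [← QuotientGroup.mk_mul, ← QuotientGroup.mk_pow, h, QuotientGroup.mk_one]
    · right; rw [← QuotientGroup.mk_mul, ← QuotientGroup.mk_pow, h, QuotientGroup.mk_one]
  · obtain ⟨a, ha, -⟩ := hw
    refine ⟨π a, ⟨a, ha, rfl⟩, Set.ext fun y => ⟨?_, fun hy => ?_⟩⟩
    · rintro ⟨x, hx, rfl⟩
      obtain ⟨g, rfl⟩ := class_trans hD ha hx
      exact isConj_iff.2 ⟨π g, by rw [← map_inv, ← map_mul, ← map_mul]; rfl⟩
    · obtain ⟨g, rfl⟩ := isConj_iff.1 hy
      obtain ⟨g, rfl⟩ := QuotientGroup.mk'_surjective _ g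
      exact ⟨_, class_conj hD g a ha, by rw [← map_inv, ← map_mul, ← map_mul]; rfl⟩
  · have : (QuotientGroup.mk : G → G ⧸ Subgroup.center G) '' D = π '' D := rfl
    rw [this, ← MonoidHom.map_closure, hD.2.2]
    exact Subgroup.map_top_of_surjective π (QuotientGroup.mk'_surjective _)
  · obtain ⟨a, ha, b, hb, hab, -⟩ := hw
    exact ⟨_, ⟨a, ha, rfl⟩, _, ⟨b, hb, rfl⟩, fun e => hab (hinj ha hb e)⟩
  · obtain ⟨a, ha, b, hb, hab, hc⟩ := hw
    exact ⟨_, ⟨a, ha, rfl⟩, _, ⟨b, hb, rfl⟩, fun e => hab (hinj ha hb e), (hcomm a ha b hb).2 hc⟩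
  · rintro _ ⟨a, ha, rfl⟩ _ ⟨b, hb, rfl⟩
    obtain ⟨g, rfl⟩ := class_trans hD ha hb
    exact ⟨π g, by rw [← map_inv]; rfl⟩
  · obtain ⟨a, ha, b, hb, hab, -⟩ := hw
    exact ⟨_, ⟨a, ha, rfl⟩, _, ⟨b, hb, rfl⟩, fun e => hab (hinj ha hb e)⟩
  · intro B hB hblock
    set B' : Set G := {x | x ∈ D ∧ π x ∈ B} with hB'
    have himg : π '' B' = B := by
      refine Set.Subset.antisymm (fun y ⟨x, hx, e⟩ => e ▸ hx.2) fun y hy => ?_
      obtain ⟨x, hx, rfl⟩ := hB hy
      exact ⟨x, ⟨hx, hy⟩, rfl⟩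
    have hb' : ∀ g : G, (fun x => g * x * g⁻¹) '' B' = B' ∨ Disjoint ((fun x => g * x * g⁻¹) '' B') B' := by
      intro g
      rcases hblock (π g) with e | e
      · refine Or.inl (Set.ext fun y => ⟨?_, fun hy => ?_⟩)
        · rintro ⟨x, hx, rfl⟩
          refine ⟨class_conj hD g x hx.1, ?_⟩
          rw [← e]
          exact ⟨π x, hx.2, by simp only [map_mul, map_inv]⟩
        · have hy2 := hy.2
          rw [← e] at hy2
          obtain ⟨b, hb, hbe⟩ := hy2
          obtain ⟨x, hx, rfl⟩ := hB hb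
          refine ⟨x, ⟨hx, hb⟩, hinj (class_conj hD g x hx) hy.1 ?_⟩
          show π (g * x * g⁻¹) = π y
          rw [map_mul, map_mul, map_inv]; exact hbe
      · refine Or.inr (Set.disjoint_left.2 ?_)
        rintro _ ⟨x, hx, rfl⟩ hy
        exact Set.disjoint_left.1 e ⟨π x, hx.2, rfl⟩ (by simpa only [map_mul, map_inv] using hy.2)
    rcases hprim.2.2 B' (fun x hx => hx.1) hb' with h | h
    · exact Or.inl (himg ▸ h.image π)
    · exact Or.inr (by rw [← himg, h, hπ, QuotientGroup.coe_mk'])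
  · haveI := (CfsgLib.Core.isPGroup_pCore 2 (G ⧸ Subgroup.center G)).isNilpotent
    rw [eq_bot_of_nilpotent_quotient hF (pCore 2 (G ⧸ Subgroup.center G))]
    exact bot_le

end Quotient

end CfsgLib.ThreeTrans.Fischer
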