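import Cfsg.Agent.Lib.ThreeTrans.Classification.Alias.Sym
import Cfsg.Agent.Lib.ThreeTrans.Refl3.Model
import Cfsg.Agent.Lib.ThreeTrans.Refl3.Rigid
import Cfsg.Agent.Lib.ThreeTrans.ReflectionsF3Prim

/-!
Fischer's classification, slice ALIAS: the reflection groups of dimension five over three elements as
unitary and orthogonal groups (owner: helper10).
-/

set_option autoImplicit false

namespace CfsgLib.ThreeTrans.Fischer

open Cfsg RankThree ReflectionsF3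
open CfsgLib.Classical.Quad
open QuadraticMap (polar polarBilin)

local notation "V5" => Fin 5 → ZMod 3

/-- The reflection group modulo its centre. -/
abbrev RQuot (Q : QuadraticForm (ZMod 3) V5) (c : ZMod 3) : Type :=
  ↥(Cfsg.reflectionSubgroup (⇑Q) c) ⧸ Subgroup.center ↥(Cfsg.reflectionSubgroup (⇑Q) c)

/-- Its class. -/
abbrev rSet (Q : QuadraticForm (ZMod 3) V5) (c : ZMod 3) : Set (RQuot Q c) :=
  (QuotientGroup.mk : ↥(Cfsg.reflectionSubgroup (⇑Q) c) → _) '' {g : ↥(Cfsg.reflectionSubgroup (⇑Q) c) |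
    (g : ↥(Cfsg.isometryGroup (ZMod 3) (⇑Q))) ∈ Cfsg.reflectionsOfNorm (⇑Q) c}

/-- The diagonal coefficients of the two types. -/
def co (δ : Bool) : V5 := ![1, 1, 1, 1, if δ then 1 else -1]

theorem co_ne (δ : Bool) : ∀ i, co δ i ≠ 0 := by revert δ; decide

def ptsPlus : Fin 45 → Fin 5 → ZMod 3 :=
  ![![0, 0, 0, 0, 1], ![0, 0, 0, 1, 0], ![0, 0, 1, 0, 0], ![0, 1, 0, 0, 0], ![0, 1, 1, 1, 1], ![0, 1, 1, 1, 2],
    ![0, 1, 1, 2, 1], ![0, 1, 1, 2, 2], ![0, 1, 2, 1, 1], ![0, 1, 2, 1, 2], ![0, 1, 2, 2, 1], ![0, 1, 2, 2, 2],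
    ![1, 0, 0, 0, 0], ![1, 0, 1, 1, 1], ![1, 0, 1, 1, 2], ![1, 0, 1, 2, 1], ![1, 0, 1, 2, 2], ![1, 0, 2, 1, 1],
    ![1, 0, 2, 1, 2], ![1, 0, 2, 2, 1], ![1, 0, 2, 2, 2], ![1, 1, 0, 1, 1], ![1, 1, 0, 1, 2], ![1, 1, 0, 2, 1],
    ![1, 1, 0, 2, 2], ![1, 1, 1, 0, 1], ![1, 1, 1, 0, 2], ![1, 1, 1, 1, 0], ![1, 1, 1, 2, 0], ![1, 1, 2, 0, 1],
    ![1, 1, 2, 0, 2], ![1, 1, 2, 1, 0], ![1, 1, 2, 2, 0], ![1, 2, 0, 1, 1], ![1, 2, 0, 1, 2], ![1, 2, 0, 2, 1],
    ![1, 2, 0, 2, 2], ![1, 2, 1, 0, 1], ![1, 2, 1, 0, 2], ![1, 2, 1, 1, 0], ![1, 2, 1, 2, 0], ![1, 2, 2, 0, 1],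
    ![1, 2, 2, 0, 2], ![1, 2, 2, 1, 0], ![1, 2, 2, 2, 0]]

def ptsMinus : Fin 36 → Fin 5 → ZMod 3 :=
  ![![0, 0, 0, 1, 0], ![0, 0, 1, 0, 0], ![0, 0, 1, 1, 1], ![0, 0, 1, 1, 2], ![0, 0, 1, 2, 1], ![0, 0, 1, 2, 2],
    ![0, 1, 0, 0, 0], ![0, 1, 0, 1, 1], ![0, 1, 0, 1, 2], ![0, 1, 0, 2, 1], ![0, 1, 0, 2, 2], ![0, 1, 1, 0, 1],
    ![0, 1, 1, 0, 2], ![0, 1, 2, 0, 1], ![0, 1, 2, 0, 2], ![1, 0, 0, 0, 0], ![1, 0, 0, 1, 1], ![1, 0, 0, 1, 2],
    ![1, 0, 0, 2, 1], ![1, 0, 0, 2, 2], ![1, 0, 1, 0, 1], ![1, 0, 1, 0, 2], ![1, 0, 2, 0, 1], ![1, 0, 2, 0, 2],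
    ![1, 1, 0, 0, 1], ![1, 1, 0, 0, 2], ![1, 1, 1, 1, 0], ![1, 1, 1, 2, 0], ![1, 1, 2, 1, 0], ![1, 1, 2, 2, 0],
    ![1, 2, 0, 0, 1], ![1, 2, 0, 0, 2], ![1, 2, 1, 1, 0], ![1, 2, 1, 2, 0], ![1, 2, 2, 1, 0], ![1, 2, 2, 2, 0]]

def sigMinus : Fin 36 → Fin 2 ⊕ Fin 2 → ZMod 2 :=
  ![mk4 0 0 0 0, mk4 0 0 0 1, mk4 0 0 0 0, mk4 0 0 0 0, mk4 0 0 0 0, mk4 0 0 0 0,
    mk4 0 0 1 0, mk4 0 0 0 0, mk4 0 0 0 0, mk4 0 0 0 0, mk4 0 0 0 0, mk4 1 1 0 0,
    mk4 1 1 1 1, mk4 1 1 0 1, mk4 1 1 1 0, mk4 0 0 1 1, mk4 0 0 0 0, mk4 0 0 0 0,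
    mk4 0 0 0 0, mk4 0 0 0 0, mk4 0 1 0 0, mk4 0 1 1 0, mk4 0 1 0 1, mk4 0 1 1 1,
    mk4 1 0 0 0, mk4 1 0 0 1, mk4 0 0 0 0, mk4 0 0 0 0, mk4 0 0 0 0, mk4 0 0 0 0,
    mk4 1 0 1 0, mk4 1 0 1 1, mk4 0 0 0 0, mk4 0 0 0 0, mk4 0 0 0 0, mk4 0 0 0 0]

theorem co_top : ∀ (δ : Bool) (i : Fin 5), i ≠ Fin.last 4 → co δ i = 1 := by decide

theorem disc_key : ∀ (c e : ZMod 3) (δ : Bool), c ≠ 0 → e = 1 ∨ e = -1 →
    discR 5 δ c = 2 * c * (2 * c) * (2 * c) * (2 * c) * (2 * c * e) → e = if δ then 1 else -1 := by decide +kernel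

section Refl

variable {Q : QuadraticForm (ZMod 3) V5} {c : ZMod 3} (hc : c ≠ 0)

theorem self_mul_elt {v : V5} (hv : Q v = c) : elt hc hv * elt hc hv = 1 :=
  toOQ_injective (by rw [map_mul, map_one, toOQ_elt, refl_mul_self])

theorem elt_inj {v w : V5} (hv : Q v = c) (hw : Q w = c) (e : elt hc hv = elt hc hw) :
    ∃ t : ZMod 3, v = t • w := by
  have h := congrArg (fun g => (toOQ g : V5 ≃ₗ[ZMod 3] V5) v) e
  simp only [toOQ_elt, refl_apply, polar_self', hv, hw] at h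
  rw [show c⁻¹ * (2 * c) = 2 by field_simp, sub_right_inj] at h
  refine ⟨2 * (c⁻¹ * polar Q v w), ?_⟩
  have h2 := congrArg (fun z => (2 : ZMod 3) • z) h
  simp only [smul_smul] at h2
  rwa [show (2 : ZMod 3) * 2 = 1 by decide, one_smul] at h2

theorem commute_elt_iff {v w : V5} (hv : Q v = c) (hw : Q w = c) :
    Commute (elt hc hv) (elt hc hw) ↔ elt hc hv = elt hc hw ∨ polar Q v w = 0 := by
  refine ⟨fun h => ?_, fun h => h.elim (fun e => e ▸ Commute.refl _) (commute_elt hc hv hw)⟩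
  by_cases hp : polar Q v w = 0
  · exact Or.inr hp
  refine Or.inl ?_
  have hb : elt hc hv * elt hc hw * elt hc hv = elt hc hw * elt hc hv * elt hc hw :=
    toOQ_injective (by rw [map_mul, map_mul, map_mul, map_mul, toOQ_elt, toOQ_elt, ReflectionsF3.braid hc hv hw _ _ hp])
  rw [h.eq, mul_assoc, self_mul_elt hc hv, mul_one, h.symm.eq] at hb
  rw [mul_assoc, self_mul_elt hc hw, mul_one] at hb
  exact hb.symm

include hc in
/-- Coordinates list the class of the projective group. -/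
theorem chart_refl (hQ : (polarBilin Q).Nondegenerate) {a : V5} (φ : V5 ≃ₗ[ZMod 3] V5)
    (hφ : ∀ x, Q (φ x) = c * Refl3.dot a x x) {ι : Type} (t : ι → V5) (ht : ∀ i, Refl3.dot a (t i) (t i) = 1)
    (hall : ∀ x, Refl3.dot a x x = 1 → ∃ i, x = t i ∨ x = -t i)
    (hdist : ∀ i j, t i = t j ∨ t i = -t j → i = j)
    (hsep : ∀ i j, (∀ k, (i = k ∨ Refl3.dot a (t i) (t k) = 0) ↔ (j = k ∨ Refl3.dot a (t j) (t k) = 0)) → i = j) :
    Setting (rSet Q c) ∧ Subgroup.center (RQuot Q c) = ⊥ ∧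
      ∃ p : ι → RQuot Q c, Chart (rSet Q c) p fun i j => i = j ∨ Refl3.dot a (t i) (t j) = 0 := by
  set D := {g : ↥(Cfsg.reflectionSubgroup (⇑Q) c) |
    (g : ↥(Cfsg.isometryGroup (ZMod 3) (⇑Q))) ∈ Cfsg.reflectionsOfNorm (⇑Q) c}
  have hn : ∀ i, Q (φ (t i)) = c := fun i => by rw [hφ, ht, mul_one]
  have hpol : ∀ x y, polar Q (φ x) (φ y) = c * (2 * Refl3.dot a x y) := fun x y => by
    rw [QuadraticMap.polar, ← map_add, hφ, hφ, hφ, Refl3.dot_add_left, Refl3.dot_comm a x (x + y),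
      Refl3.dot_comm a y (x + y), Refl3.dot_add_left, Refl3.dot_add_left, Refl3.dot_comm a y x]
    ring
  let q : ι → ↥(Cfsg.reflectionSubgroup (⇑Q) c) := fun i => elt hc (hn i)
  have hget : ∀ g ∈ D, ∃ i, q i = g := by
    intro g hg
    obtain ⟨v, hv, rfl⟩ := exists_elt hc hg
    have h1 : Refl3.dot a (φ.symm v) (φ.symm v) = 1 :=
      mul_left_cancel₀ hc (by rw [← hφ, φ.apply_symm_apply, hv, mul_one])
    obtain ⟨i, e | e⟩ := hall _ h1
    · exact ⟨i, (elt_eq hc (hn i) hv one_ne_zero (by rw [one_smul, ← e, φ.apply_symm_apply])).symm⟩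
    · refine ⟨i, (elt_eq hc (hn i) hv (t := -1) (by decide) ?_).symm⟩
      rw [neg_one_smul, ← map_neg, ← e, φ.apply_symm_apply]
  have hqinj : ∀ i j, q i = q j → i = j := by
    intro i j e
    obtain ⟨s, hs⟩ := elt_inj hc (hn i) (hn j) e
    rw [← map_smul] at hs
    have hs' := φ.injective hs
    rcases z3_cases s with rfl | rfl | rfl
    · have := ht i
      rw [hs', zero_smul] at this
      simp [Refl3.dot] at this
    · exact hdist i j (Or.inl (by rw [hs', one_smul]))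
    · exact hdist i j (Or.inr (by rw [hs', neg_one_smul]))
  have hcomm : ∀ i j, Commute (q i) (q j) ↔ (i = j ∨ Refl3.dot a (t i) (t j) = 0) := by
    intro i j
    show Commute (elt hc (hn i)) (elt hc (hn j)) ↔ _
    rw [commute_elt_iff, hpol]
    constructor
    · rintro (e | e)
      · exact Or.inl (hqinj i j e)
      · exact Or.inr (((mul_eq_zero.1 e).resolve_left hc |> mul_eq_zero.1).resolve_left (by decide))
    · rintro (rfl | e)
      · exact Or.inl rfl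
      · exact Or.inr (by rw [e, mul_zero, mul_zero])
  obtain ⟨hprim, hw⟩ := ReflectionsF3.primitive hc hQ le_rfl
  have hinj : Set.InjOn (QuotientGroup.mk : _ → RQuot Q c) D := by
    intro x hx y hy e
    obtain ⟨i, rfl⟩ := hget x hx
    obtain ⟨j, rfl⟩ := hget y hy
    have hz := QuotientGroup.eq.1 e
    have hiff : ∀ w, Commute (q i) w ↔ Commute (q j) w := by
      intro w
      have hzw : Commute ((q i)⁻¹ * q j) w := (Subgroup.mem_center_iff.1 hz w).symm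
      refine ⟨fun h => ?_, fun h => ?_⟩
      · simpa using h.mul_left hzw
      · have := h.mul_left hzw.inv_left
        simpa [mul_assoc] using this
    rw [hsep i j fun k => by rw [← hcomm, ← hcomm, hiff]]
  obtain ⟨S, hZ, hcm⟩ := setting_center_quotient (threeTranspositionClass (by norm_num) hQ hc) hprim hw hinj
  refine ⟨S, hZ, fun i => (q i : RQuot Q c), ⟨Set.ext fun g => ⟨?_, ?_⟩, fun i j e => ?_, fun i j => ?_⟩⟩
  · rintro ⟨i, rfl⟩
    exact ⟨q i, elt_mem hc (hn i), rfl⟩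
  · rintro ⟨x, hx, rfl⟩
    obtain ⟨i, rfl⟩ := hget x hx
    exact ⟨i, rfl⟩
  · exact hqinj i j (hinj (elt_mem hc (hn i)) (elt_mem hc (hn j)) e)
  · rw [hcm _ (elt_mem hc (hn i)) _ (elt_mem hc (hn j))]
    exact hcomm i j

include hc in
/-- A diagonal basis adapted to the norm. -/
theorem exists_coords (hQ : (polarBilin Q).Nondegenerate) (δ : Bool)
    (hdet : Cfsg.polarGramDet (⇑Q) = discR 5 δ c) :
    ∃ φ : V5 ≃ₗ[ZMod 3] V5, ∀ x, Q (φ x) = c * Refl3.dot (co δ) x x := by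
  haveI : Fact (Nat.Prime 3) := ⟨Nat.prime_three⟩
  have h2c : 2 * c ≠ 0 := mul_ne_zero ReflectionsF3.two_ne hc
  let B : LinearMap.BilinForm (ZMod 3) V5 := (2 * c) • polarBilin Q
  have hB : ∀ u v, B u v = 2 * c * polar Q u v := fun u v => rfl
  have hnd : B.Nondegenerate := ⟨fun v hv => hQ.1 v fun w => (mul_eq_zero.1 (hv w)).resolve_left h2c,
    fun v hv => hQ.2 v fun w => (mul_eq_zero.1 (hv w)).resolve_left h2c⟩
  obtain ⟨b, hb0, hb1, hb2⟩ := exists_normal_basis ReflectionsF3.two_ne Refl3.not_isSquare_neg_one 4 B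
    ⟨fun u v => by rw [hB, hB, QuadraticMap.polar_comm]⟩ hnd (by rw [Module.finrank_pi, Fintype.card_fin])
  set ε := B (b (Fin.last 4)) (b (Fin.last 4)) with hε
  have hcc : c * c = 1 := sq_of_ne _ hc
  have hQb : ∀ u, Q u = c * B u u := fun u => by
    rw [hB, polar_self']
    linear_combination (-4 * Q u) * hcc + (-Q u) * three_zero
  have hεs : ε = if δ then 1 else -1 := by
    have h := det_gram_of_isometry (Pi.basisFun (ZMod 3) (Fin 5)) b (polarBilin Q) (polarBilin Q)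
      (LinearEquiv.refl (ZMod 3) V5) fun _ _ => rfl
    have hg : (LinearMap.BilinForm.toMatrix (Pi.basisFun (ZMod 3) (Fin 5)) (polarBilin Q)).det =
        Cfsg.polarGramDet (⇑Q) := by
      refine congrArg Matrix.det (Matrix.ext fun i j => ?_)
      rw [LinearMap.BilinForm.toMatrix_apply, Pi.basisFun_apply, Pi.basisFun_apply]
      rfl
    have hd : (LinearMap.toMatrix (Pi.basisFun (ZMod 3) (Fin 5)) b
        ((LinearEquiv.refl (ZMod 3) V5 : V5 ≃ₗ[ZMod 3] V5) : V5 →ₗ[ZMod 3] V5)).det ≠ 0 :=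
      ((LinearEquiv.refl (ZMod 3) V5).isUnit_det _ b).ne_zero
    have hp : ∀ i j, polarBilin Q (b i) (b j) = 2 * c * B (b i) (b j) := fun i j => by
      rw [QuadraticMap.polarBilin_apply_apply, hB]
      linear_combination (-4 * polar Q (b i) (b j)) * hcc + (-polar Q (b i) (b j)) * three_zero
    rw [hg, hdet, pow_two, sq_of_ne _ hd, one_mul, det_gram_diag b (polarBilin Q) fun i j hij => by
      rw [hp, hb0 i j hij, mul_zero], Fin.prod_univ_five] at h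
    simp only [hp, hb1 0 (by decide), hb1 1 (by decide), hb1 2 (by decide), hb1 3 (by decide), mul_one] at h
    exact disc_key c ε δ hc hb2 h
  have hdiag : ∀ i, B (b i) (b i) = co δ i := by
    intro i
    by_cases hi : i = Fin.last 4
    · subst hi
      rw [show co δ (Fin.last 4) = if δ then 1 else -1 from rfl]
      exact hεs
    · rw [hb1 i hi, co_top δ i hi]
  clear_value B ε
  refine ⟨b.equivFun.symm, fun x => ?_⟩
  rw [hQb, b.equivFun_symm_apply, Refl3.dot]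
  refine congrArg (c * ·) ?_
  simp only [map_sum, LinearMap.sum_apply, map_smul, LinearMap.smul_apply, smul_eq_mul]
  refine Finset.sum_congr rfl fun i _ => ?_
  rw [Finset.sum_eq_single i (fun j _ hj => by simp [hb0 j i hj, hb0 i j hj.symm]) (by simp), hdiag]
  ring

include hc in
theorem refl_five_true (hQ : (polarBilin Q).Nondegenerate) (hdet : Cfsg.polarGramDet (⇑Q) = discR 5 true c) :
    Setting (rSet Q c) ∧ (rSet Q c).ncard = 45 ∧ Polar.Pol (rSet Q c) := by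
  obtain ⟨φ, hφ⟩ := exists_coords hc hQ true hdet
  obtain ⟨S, hZ, p, C⟩ := chart_refl hc hQ φ hφ ptsPlus (by decide +kernel) (by decide +kernel) (by decide +kernel)
    (by decide +kernel)
  exact ⟨S, C.ncard, C.pol S hZ 0 1 2 (by decide +kernel)⟩

include hc in
theorem refl_five_false (hQ : (polarBilin Q).Nondegenerate) (hdet : Cfsg.polarGramDet (⇑Q) = discR 5 false c) :
    (Fam.oMinus 3).Model (RQuot Q c) (rSet Q c) := by
  obtain ⟨φ, hφ⟩ := exists_coords hc hQ false hdet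
  obtain ⟨S, hZ, p, C⟩ := chart_refl hc hQ φ hφ ptsMinus (by decide +kernel) (by decide +kernel) (by decide +kernel)
    (by decide +kernel)
  rcases C.orth S hZ 0 sigMinus (by decide +kernel) (by decide +kernel) (by decide +kernel) (by decide +kernel)
    with ⟨h, -⟩ | ⟨-, h⟩
  · rw [C.ncard] at h; simp at h
  · exact h

end Refl

/-- A form of each type. -/
theorem exists_form (δ : Bool) : ∃ Q : QuadraticForm (ZMod 3) V5, (polarBilin Q).Nondegenerate ∧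
    Cfsg.polarGramDet (⇑Q) = discR 5 δ 1 := by
  refine ⟨Refl3.diagForm (co δ), Refl3.nondeg_diagForm (co_ne δ), ?_⟩
  have h : Cfsg.polarGramDet (⇑(Refl3.diagForm (co δ))) = (Matrix.diagonal fun i => 2 * co δ i).det := by
    refine congrArg Matrix.det (Matrix.ext fun i j => ?_)
    rw [Matrix.of_apply, Refl3.polar_diagForm, Refl3.dot_single_left]
    by_cases hij : i = j
    · subst hij; simp
    · simp [hij, Matrix.diagonal_apply_ne _ hij]
  rw [h, Matrix.det_diagonal, Fin.prod_univ_five]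
  revert δ
  decide +kernel

end CfsgLib.ThreeTrans.Fischer
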