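import Cfsg.Agent.Lib.ThreeTrans.Classification.Alias.Chart
import Cfsg.Agent.Lib.ThreeTrans.SymSection.Main
import Cfsg.Agent.S0439

/-!
Fischer's classification, slice ALIAS: the symmetric groups of degree six and eight as symplectic and
orthogonal groups (owner: helper10).
-/

set_option autoImplicit false

namespace CfsgLib.ThreeTrans.Fischer

open Cfsg RankThree

/-- Coordinates in dimension four. -/
def mk4 (a b c d : ZMod 2) : Fin 2 ⊕ Fin 2 → ZMod 2 := Sum.elim ![a, b] ![c, d]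

theorem setting_perm {n : ℕ} (hn : 5 ≤ n) : Setting {σ : Equiv.Perm (Fin n) | σ.IsSwap} := by
  have h5 : 5 ≤ Nat.card (Fin n) := by rwa [Nat.card_fin]
  haveI := alternatingGroup.isSimpleGroup h5
  have e := alternatingGroup.commutator_perm_eq h5
  haveI : IsSimpleGroup (commutator (Equiv.Perm (Fin n))) := (MulEquiv.subgroupCongr e).isSimpleGroup
  refine setting_of_simple (Cfsg.Agent.S0439.result n (by omega)) ?_
  by_contra hc
  push Not at hc
  have h4 := alternatingGroup.center_eq_bot (α := Fin n) (by omega)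
  have hall : Subgroup.center (alternatingGroup (Fin n)) = ⊤ := Subgroup.eq_top_iff' _ |>.2 fun x =>
    Subgroup.mem_center_iff.2 fun y => by
      have := congrArg (MulEquiv.subgroupCongr e) (hc ((MulEquiv.subgroupCongr e).symm y) ((MulEquiv.subgroupCongr e).symm x))
      simpa using this
  haveI : Nontrivial (alternatingGroup (Fin n)) := inferInstance
  exact bot_ne_top (h4.symm.trans hall)

/-- A table of pairs lists the transpositions. -/
theorem chart_perm {n : ℕ} {ι : Type} (t : ι → Fin n × Fin n) (hne : ∀ i, (t i).1 ≠ (t i).2)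
    (hall : ∀ a b : Fin n, a ≠ b → ∃ i, (t i).1 = a ∧ (t i).2 = b ∨ (t i).1 = b ∧ (t i).2 = a)
    (hinj : ∀ i j, Equiv.swap (t i).1 (t i).2 = Equiv.swap (t j).1 (t j).2 → i = j) :
    Chart {σ : Equiv.Perm (Fin n) | σ.IsSwap} (fun i => Equiv.swap (t i).1 (t i).2)
      (fun i j => Equiv.swap (t i).1 (t i).2 * Equiv.swap (t j).1 (t j).2 =
        Equiv.swap (t j).1 (t j).2 * Equiv.swap (t i).1 (t i).2) := by
  refine ⟨Set.ext fun σ => ⟨?_, ?_⟩, fun i j => hinj i j, fun i j => Iff.rfl⟩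
  · rintro ⟨i, rfl⟩
    exact ⟨_, _, hne i, rfl⟩
  · rintro ⟨a, b, hab, rfl⟩
    obtain ⟨i, ⟨h1, h2⟩ | ⟨h1, h2⟩⟩ := hall a b hab
    · exact ⟨i, by show Equiv.swap (t i).1 (t i).2 = _; rw [h1, h2]⟩
    · exact ⟨i, by show Equiv.swap (t i).1 (t i).2 = _; rw [h1, h2, Equiv.swap_comm]⟩

def duads6 : Fin 15 → Fin 6 × Fin 6 :=
  ![(0, 1), (0, 2), (0, 3), (0, 4), (0, 5), (1, 2),
    (1, 3), (1, 4), (1, 5), (2, 3), (2, 4), (2, 5),
    (3, 4), (3, 5), (4, 5)]

def duads8 : Fin 28 → Fin 8 × Fin 8 :=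
  ![(0, 1), (0, 2), (0, 3), (0, 4), (0, 5), (0, 6),
    (0, 7), (1, 2), (1, 3), (1, 4), (1, 5), (1, 6),
    (1, 7), (2, 3), (2, 4), (2, 5), (2, 6), (2, 7),
    (3, 4), (3, 5), (3, 6), (3, 7), (4, 5), (4, 6),
    (4, 7), (5, 6), (5, 7), (6, 7)]

def sig8 : Fin 28 → Fin 2 ⊕ Fin 2 → ZMod 2 :=
  ![mk4 0 0 0 0, mk4 0 0 0 0, mk4 0 0 0 0, mk4 0 0 0 0, mk4 0 0 0 0, mk4 0 0 0 0,
    mk4 0 0 0 0, mk4 0 0 0 0, mk4 0 0 0 0, mk4 0 0 0 0, mk4 0 0 0 0, mk4 0 0 0 0,
    mk4 0 0 0 0, mk4 0 0 0 1, mk4 0 1 0 0, mk4 0 1 1 1, mk4 1 1 0 1, mk4 1 1 1 1,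
    mk4 0 1 0 1, mk4 0 1 1 0, mk4 1 1 0 0, mk4 1 1 1 0, mk4 0 0 1 1, mk4 1 0 0 1,
    mk4 1 0 1 1, mk4 1 0 1 0, mk4 1 0 0 0, mk4 0 0 1 0]

theorem sym_six_model : (Fam.sp 2).Model (Equiv.Perm (Fin 6)) {σ : Equiv.Perm (Fin 6) | σ.IsSwap} := by
  have C := chart_perm duads6 (by decide) (by decide +kernel) (by decide +kernel)
  exact sp_two_of_pol (C.pol (setting_perm (by norm_num)) (SymSection.center_perm_eq_bot (by norm_num)) 0 9 14
    (by decide +kernel)) C.ncard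

theorem sym_eight_model : (Fam.oPlus 3).Model (Equiv.Perm (Fin 8)) {σ : Equiv.Perm (Fin 8) | σ.IsSwap} := by
  have C := chart_perm duads8 (by decide) (by decide +kernel) (by decide +kernel)
  rcases C.orth (setting_perm (by norm_num)) (SymSection.center_perm_eq_bot (by norm_num)) 0 sig8
    (by decide +kernel) (by decide +kernel) (by decide +kernel) (by decide +kernel) with ⟨-, h⟩ | ⟨h, -⟩
  · exact h
  · rw [C.ncard] at h; simp at h

end CfsgLib.ThreeTrans.Fischer
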